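import Cfsg.Agent.H688.HT.Sq
import Cfsg.Agent.S2601
import Cfsg.Agent.S2603
import Cfsg.Agent.S0243
import Cfsg.Agent.S0280
import Cfsg.Agent.S0282

/-!
# S4933: `PSL₃(q)`, `3 ∥ q - 1`, and `PSU₃(q)`, `3 ∥ q + 1`, `p = 3` (helper688)
-/

set_option autoImplicit false

namespace Cfsg.Agent.H688.HT

open Cfsg Subgroup Cfsg.Agent.H316.HT Matrix

theorem fac_of_nine {n c : ℕ} (h : n = 9 * c) (hc : ¬ 3 ∣ c) : n.factorization 3 = 2 := by
  have hc0 : c ≠ 0 := by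
    rintro rfl
    exact hc (dvd_zero 3)
  rw [h, show (9 : ℕ) = 3 ^ 2 by norm_num, Nat.factorization_mul (by norm_num) hc0, Finsupp.add_apply,
    Nat.Prime.factorization_pow Nat.prime_three, Finsupp.single_eq_same, Nat.factorization_eq_zero_of_not_dvd hc]

/-- `|PSL₃(q)|_3 = 9` -/
theorem fac_psl3 {F : Type*} [Field F] [Fintype F] (h3 : 3 ∣ Fintype.card F - 1) (h9 : ¬ 9 ∣ Fintype.card F - 1) :
    (Nat.card (ProjectiveSpecialLinearGroup (Fin 3) F)).factorization 3 = 2 := by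
  have h1 := Cfsg.Agent.S0243.result (F := F) rfl 3 (by norm_num)
  have hq1 : 1 < Fintype.card F := Fintype.one_lt_card
  obtain ⟨k, hk⟩ := h3
  rw [Fin.prod_univ_three] at h1
  set q := Fintype.card F with hq
  have hqk : q = 3 * k + 1 := by omega
  have hk3 : ¬ 3 ∣ k := by
    rintro ⟨c, hc⟩
    apply h9
    exact ⟨c, by omega⟩
  have hk0 : 0 < k := by
    rcases Nat.eq_zero_or_pos k with h | h
    · omega
    · exact h
  have hg : Nat.gcd 3 (q - 1) = 3 := Nat.gcd_eq_left ⟨k, hk⟩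
  rw [hg] at h1
  have e0 : q ^ 3 - q ^ ((0 : Fin 3) : ℕ) = 9 * k * (3 * k ^ 2 + 3 * k + 1) := by
    have : q ^ 3 = 9 * k * (3 * k ^ 2 + 3 * k + 1) + 1 := by rw [hqk]; ring
    rw [this]
    simp
  have e1 : q ^ 3 - q ^ ((1 : Fin 3) : ℕ) = q * (3 * k * (3 * k + 2)) := by
    have : q ^ 3 = q * (3 * k * (3 * k + 2)) + q := by rw [hqk]; ring
    rw [this]
    simp
  have e2 : q ^ 3 - q ^ ((2 : Fin 3) : ℕ) = q ^ 2 * (q - 1) := by
    have : q ^ 3 = q ^ 2 * (q - 1) + q ^ 2 := by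
      obtain ⟨m, hm⟩ : ∃ m, q = m + 1 := ⟨q - 1, by omega⟩
      rw [hm, Nat.add_sub_cancel]
      ring
    rw [this]
    simp
  rw [e0, e1, e2] at h1
  have h4 : (3 * (q - 1)) * Nat.card (ProjectiveSpecialLinearGroup (Fin 3) F) =
      (3 * (q - 1)) * (9 * (q ^ 3 * k ^ 2 * (3 * k ^ 2 + 3 * k + 1) * (3 * k + 2))) := by
    calc (3 * (q - 1)) * Nat.card (ProjectiveSpecialLinearGroup (Fin 3) F)
        = 3 * ((q - 1) * Nat.card (ProjectiveSpecialLinearGroup (Fin 3) F)) := by ring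
      _ = 9 * k * (3 * k ^ 2 + 3 * k + 1) * (q * (3 * k * (3 * k + 2))) * (q ^ 2 * (q - 1)) := h1
      _ = _ := by ring
  have h5 := Nat.eq_of_mul_eq_mul_left (by omega) h4
  refine fac_of_nine h5 ?_
  have hp := Nat.prime_three
  intro hd
  rcases hp.dvd_mul.1 hd with h6 | h6
  · rcases hp.dvd_mul.1 h6 with h7 | h7
    · rcases hp.dvd_mul.1 h7 with h8 | h8
      · have := hp.dvd_of_dvd_pow h8
        omega
      · exact hk3 (hp.dvd_of_dvd_pow h8)
    · have h8 : 3 ∣ 3 * k ^ 2 + 3 * k := ⟨k ^ 2 + k, by ring⟩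
      have := (Nat.dvd_add_right h8).1 h7
      omega
  · omega

/-- `|PSU₃(q)|_3 = 9` -/
theorem fac_psu3 {F : Type*} [Field F] [Fintype F] {q : ℕ} (hF : Fintype.card F = q ^ 2) (h3 : 3 ∣ q + 1)
    (h9 : ¬ 9 ∣ q + 1) : (Nat.card (PSU 3 F q)).factorization 3 = 2 := by
  have h1 := Cfsg.Agent.S0280.result (F := F) hF 3 (by norm_num)
  obtain ⟨k, hk⟩ := h3
  have hg : Nat.gcd 3 (q + 1) = 3 := Nat.gcd_eq_left ⟨k, hk⟩
  have hk3 : ¬ 3 ∣ k := by
    rintro ⟨c, hc⟩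
    apply h9
    exact ⟨c, by omega⟩
  obtain ⟨m, hm⟩ : ∃ m, k = m + 1 := ⟨k - 1, by
    have : k ≠ 0 := by rintro rfl; omega
    omega⟩
  have hqm : q = 3 * m + 2 := by omega
  rw [hg] at h1
  simp only [Finset.prod_range_succ, Finset.prod_range_zero, one_mul] at h1
  norm_num [Nat.even_iff] at h1
  have e1 : q ^ 2 - 1 = 3 * (m + 1) * (3 * m + 1) := by
    have : q ^ 2 = 3 * (m + 1) * (3 * m + 1) + 1 := by rw [hqm]; ring
    rw [this]; simp
  have e2 : q ^ 3 + 1 = 9 * (m + 1) * (3 * m ^ 2 + 3 * m + 1) := by rw [hqm]; ring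
  rw [e1, e2] at h1
  have h4 : (3 * (q + 1)) * Nat.card (PSU 3 F q) =
      (3 * (q + 1)) * (9 * (q ^ 3 * (m + 1) ^ 2 * (3 * m ^ 2 + 3 * m + 1) * (3 * m + 1))) := by
    calc (3 * (q + 1)) * Nat.card (PSU 3 F q) = 3 * ((q + 1) * Nat.card (PSU 3 F q)) := by ring
      _ = q ^ 3 * ((q + 1) * (3 * (m + 1) * (3 * m + 1)) * (9 * (m + 1) * (3 * m ^ 2 + 3 * m + 1))) := h1
      _ = _ := by ring
  have h5 := Nat.eq_of_mul_eq_mul_left (by omega) h4
  refine fac_of_nine h5 ?_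
  have hp := Nat.prime_three
  intro hd
  rcases hp.dvd_mul.1 hd with h6 | h6
  · rcases hp.dvd_mul.1 h6 with h7 | h7
    · rcases hp.dvd_mul.1 h7 with h8 | h8
      · have := hp.dvd_of_dvd_pow h8
        omega
      · apply hk3
        rw [hm]
        exact hp.dvd_of_dvd_pow h8
    · have h8 : 3 ∣ 3 * m ^ 2 + 3 * m := ⟨m ^ 2 + m, by ring⟩
      have := (Nat.dvd_add_right h8).1 h7
      omega
  · omega

/-- cubes congruent to `1` modulo `3` -/
theorem nine_of_cube {x : ℕ} (h : x ^ 3 % 3 = 1) : x ^ 3 % 9 = 1 := by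
  have h1 : x ^ 3 % 9 = (x % 9) ^ 3 % 9 := Nat.pow_mod _ _ _
  have h2 : x ^ 3 % 3 = (x % 9) ^ 3 % 3 := by
    rw [Nat.pow_mod, Nat.pow_mod (x % 9)]
    congr 2
    omega
  have h3 : x % 9 < 9 := Nat.mod_lt _ (by norm_num)
  rw [h1]
  rw [h2] at h
  generalize x % 9 = y at h h3 ⊢
  interval_cases y <;> simp_all

theorem nine_of_cube' {x : ℕ} (h : x ^ 3 % 3 = 2) : x ^ 3 % 9 = 8 := by
  have h1 : x ^ 3 % 9 = (x % 9) ^ 3 % 9 := Nat.pow_mod _ _ _
  have h2 : x ^ 3 % 3 = (x % 9) ^ 3 % 3 := by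
    rw [Nat.pow_mod, Nat.pow_mod (x % 9)]
    congr 2
    omega
  have h3 : x % 9 < 9 := Nat.mod_lt _ (by norm_num)
  rw [h1]
  rw [h2] at h
  generalize x % 9 = y at h h3 ⊢
  interval_cases y <;> simp_all

/-- **`PSL₃(q)`, `3 ∥ q - 1`** -/
theorem row_psl3 (F : Type) [Field F] [Fintype F] (h3 : 3 ∣ Fintype.card F - 1) (h9 : ¬ 9 ∣ Fintype.card F - 1) :
    Row 3 (ProjectiveSpecialLinearGroup (Fin 3) F) := by
  have : Fact (Nat.Prime 3) := ⟨Nat.prime_three⟩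
  have hq1 : 1 < Fintype.card F := Fintype.one_lt_card
  obtain ⟨r, _, ⟨f, hfpos⟩, hr, hF⟩ := FiniteField.card' F
  change Fintype.card F = r ^ f at hF
  have hrf : Fact r.Prime := ⟨hr⟩
  obtain ⟨φ, -, -, hk⟩ := S2601.result (F := F) (p := r) (f := f) (n := 3) hfpos hF le_rfl
  refine row_sq le_rfl (fac_psl3 h3 h9) φ ?_ ?_
  · rw [hk, ← hF]
    exact Nat.gcd_eq_left h3
  · have hcf : Nat.card (Multiplicative (ZMod f × ZMod 2)) = f * 2 := by
      rw [Nat.card_congr Multiplicative.toAdd, Nat.card_prod, Nat.card_zmod, Nat.card_zmod]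
    rw [hcf]
    intro hd
    have hd3 : 3 ∣ f := by
      rcases Nat.prime_three.dvd_mul.1 hd with h | h
      · exact h
      · omega
    obtain ⟨c, hc⟩ := hd3
    apply h9
    have e1 : Fintype.card F = (r ^ c) ^ 3 := by rw [hF, hc, ← pow_mul, mul_comm]
    rw [e1] at h3 hq1 ⊢
    have := nine_of_cube (x := r ^ c) (by omega)
    omega

/-- **`PSU₃(q)`, `3 ∥ q + 1`** -/
theorem row_psu3 (F : Type) [Field F] [Fintype F] (q : ℕ) [IsSimpleGroup (PSU 3 F q)] (hF : Fintype.card F = q ^ 2)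
    (h3 : 3 ∣ q + 1) (h9 : ¬ 9 ∣ q + 1) : Row 3 (PSU 3 F q) := by
  have : Fact (Nat.Prime 3) := ⟨Nat.prime_three⟩
  have h2 : q ≠ 2 := by
    rintro rfl
    obtain ⟨hc, hsol⟩ := Cfsg.Agent.S0282.result (F := F) (by rw [hF]; norm_num)
    have hcomm := IsSimpleGroup.comm_iff_isSolvable.2 hsol
    let _ : CommGroup (PSU 3 F 2) := { (inferInstance : Group (PSU 3 F 2)) with mul_comm := hcomm }
    have hp : (Nat.card (PSU 3 F 2)).Prime := IsSimpleGroup.prime_card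
    rw [hc] at hp
    revert hp
    decide
  obtain ⟨r, _, ⟨g, hgpos⟩, hr, hF'⟩ := FiniteField.card' F
  change Fintype.card F = r ^ g at hF'
  have hrf : Fact r.Prime := ⟨hr⟩
  -- `q` is a power of `r`
  obtain ⟨f, hf⟩ : ∃ f, q = r ^ f := by
    have h1 : q ∣ r ^ g := by rw [← hF', hF]; exact dvd_pow_self q (by norm_num)
    obtain ⟨f, -, hf⟩ := (Nat.dvd_prime_pow hr).1 h1
    exact ⟨f, hf⟩
  have hf1 : 1 ≤ f := by
    rcases Nat.eq_zero_or_pos f with h | h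
    · rw [h, pow_zero] at hf
      omega
    · exact h
  obtain ⟨φ, -, -, hk⟩ := S2603.result (K := F) (p := r) (f := f) (q := q) (n := 3) hf1 hf hF le_rfl (fun h => h2 h.2)
  refine row_sq le_rfl (fac_psu3 hF h3 h9) φ ?_ ?_
  · rw [hk]
    exact Nat.gcd_eq_left h3
  · have hcf : Nat.card (Multiplicative (ZMod (2 * f))) = 2 * f := by
      rw [Nat.card_congr Multiplicative.toAdd, Nat.card_zmod]
    rw [hcf]
    intro hd
    have hd3 : 3 ∣ f := by
      rcases Nat.prime_three.dvd_mul.1 hd with h | h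
      · omega
      · exact h
    obtain ⟨c, hc⟩ := hd3
    apply h9
    have e1 : q = (r ^ c) ^ 3 := by rw [hf, hc, ← pow_mul, mul_comm]
    rw [e1] at h3 ⊢
    have := nine_of_cube' (x := r ^ c) (by omega)
    omega

end Cfsg.Agent.H688.HT
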