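import Cfsg.Agent.H688.HT.Sq
import Cfsg.Agent.H775.K4.Psl2
import Cfsg.Agent.ClassicalGeometry.PSLTorus
import Cfsg.Agent.S2602
import Cfsg.Agent.S0243
import Cfsg.Agent.H892.HT.Disp

/-!
# S4933: `PSL₂(q)`, `q ≡ ±3 (mod 8)`, `p = 2` (helper688)
-/

set_option autoImplicit false

namespace Cfsg.Agent.H688.HT

open Cfsg Subgroup Cfsg.Agent.H316.HT Matrix

/-- the order of `PSL₂(q)`, `q` odd -/
theorem card_psl2 {F : Type*} [Field F] [Fintype F] (hodd : Odd (Fintype.card F)) :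
    2 * Nat.card (ProjectiveSpecialLinearGroup (Fin 2) F) = Fintype.card F * (Fintype.card F ^ 2 - 1) := by
  have h1 := Cfsg.Agent.S0243.result (F := F) rfl 2 le_rfl
  rw [Fin.prod_univ_two] at h1
  have hq1 : 1 < Fintype.card F := Fintype.one_lt_card
  have h2 : Nat.gcd 2 (Fintype.card F - 1) = 2 := Nat.gcd_eq_left (by obtain ⟨k, hk⟩ := hodd; omega)
  rw [h2] at h1
  set q := Fintype.card F with hq
  obtain ⟨m, hm⟩ : ∃ m, q = m + 1 := ⟨q - 1, by omega⟩
  have e1 : q ^ 2 - q ^ ((0 : Fin 2) : ℕ) = q ^ 2 - 1 := by simp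
  have e2 : q ^ 2 - q ^ ((1 : Fin 2) : ℕ) = q * (q - 1) := by
    simp only [Fin.val_one, pow_one]
    rw [sq, Nat.mul_sub, mul_one]
  rw [e1, e2] at h1
  have h3 : (q - 1) * (2 * Nat.card (ProjectiveSpecialLinearGroup (Fin 2) F)) = (q - 1) * (q * (q ^ 2 - 1)) := by
    calc (q - 1) * (2 * Nat.card (ProjectiveSpecialLinearGroup (Fin 2) F))
        = 2 * ((q - 1) * Nat.card (ProjectiveSpecialLinearGroup (Fin 2) F)) := by ring
      _ = (q ^ 2 - 1) * (q * (q - 1)) := h1
      _ = _ := by ring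
  exact Nat.eq_of_mul_eq_mul_left (by omega) h3

/-- abelian Sylow `2`-subgroups have order four -/
theorem fact_two {F : Type} [Field F] [Fintype F] (hodd : Odd (Fintype.card F))
    (hab : H892.HT.Ab 2 (ProjectiveSpecialLinearGroup (Fin 2) F)) :
    (Nat.card (ProjectiveSpecialLinearGroup (Fin 2) F)).factorization 2 = 2 := by
  have : Fact (Nat.Prime 2) := ⟨Nat.prime_two⟩
  have : Finite (ProjectiveSpecialLinearGroup (Fin 2) F) := inferInstanceAs (Finite (_ ⧸ _))
  obtain ⟨P⟩ : Nonempty (Sylow 2 (ProjectiveSpecialLinearGroup (Fin 2) F)) := inferInstance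
  have h2 : (2 : F) ≠ 0 := (Cfsg.Agent.ClassicalGeometry.PSLTorus.two_ne_zero_iff_odd F).2 hodd
  have h4 := Cfsg.Agent.H775.K4.Psl2.syl_psl2 h2 P
  have hc := hab P
  have hbot : commutator ↥(P : Subgroup (ProjectiveSpecialLinearGroup (Fin 2) F)) = ⊥ := by
    rw [commutator_eq_bot_iff_center_eq_top]
    exact Subgroup.center_eq_top_iff.2 hc
  have h5 : (commutator ↥(P : Subgroup (ProjectiveSpecialLinearGroup (Fin 2) F))).index = 4 := h4
  rw [hbot, Subgroup.index_bot, P.card_eq_multiplicity] at h5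
  exact Nat.pow_right_injective (le_refl 2) (h5.trans (by norm_num))

/-- **field `TwoRows.psl2_ab`** -/
theorem psl2_ab (F : Type) [Field F] [Fintype F] [IsSimpleGroup (ProjectiveSpecialLinearGroup (Fin 2) F)]
    (hodd : Odd (Fintype.card F)) (h4 : 4 ≤ Fintype.card F) (hab : H892.HT.Ab 2 (ProjectiveSpecialLinearGroup (Fin 2) F)) :
    Row 2 (ProjectiveSpecialLinearGroup (Fin 2) F) := by
  have : Fact (Nat.Prime 2) := ⟨Nat.prime_two⟩
  obtain ⟨r, _, ⟨f, hfpos⟩, hr, hF⟩ := FiniteField.card' F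
  change Fintype.card F = r ^ f at hF
  have hrf : Fact r.Prime := ⟨hr⟩
  have hfac := fact_two hodd hab
  have hf1 : 1 ≤ f := hfpos
  obtain ⟨φ, -, -, hk⟩ := S2602.result (F := F) (p := r) (f := f) hf1 hF (by rw [← hF]; exact h4)
  have hrodd : Odd r := by
    rw [hF] at hodd
    exact (Nat.odd_pow_iff (by omega)).1 hodd
  refine row_sq (by norm_num) hfac φ ?_ ?_
  · rw [hk, ← hF]
    exact Nat.gcd_eq_left (by obtain ⟨k, hk⟩ := hodd; omega)
  · -- `f` is odd
    have hcf : Nat.card (Multiplicative (ZMod f)) = f := by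
      rw [Nat.card_congr Multiplicative.toAdd, Nat.card_zmod]
    rw [hcf]
    rintro ⟨c, hc⟩
    -- `16 ∣ q ^ 2 - 1`
    have h16 : 16 ∣ Fintype.card F ^ 2 - 1 := by
      have e1 : Fintype.card F ^ 2 = (r ^ c) ^ 4 := by
        rw [hF, hc, ← pow_mul, ← pow_mul]
        congr 1
        omega
      rw [e1]
      have ho : Odd (r ^ c) := hrodd.pow
      have h1 : (r ^ c) % 16 % 2 = 1 := by
        have := Nat.odd_iff.1 ho
        omega
      have h2 : (r ^ c) ^ 4 % 16 = 1 := by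
        rw [Nat.pow_mod]
        have h3 : (r ^ c) % 16 < 16 := Nat.mod_lt _ (by norm_num)
        generalize (r ^ c) % 16 = x at h1 h3 ⊢
        interval_cases x <;> simp_all
      have h5 : 1 ≤ (r ^ c) ^ 4 := Nat.one_le_pow _ _ (pow_pos hr.pos _)
      omega
    have h8 : 8 ∣ Nat.card (ProjectiveSpecialLinearGroup (Fin 2) F) := by
      have h1 := card_psl2 hodd
      have h2 : 2 * 8 ∣ 2 * Nat.card (ProjectiveSpecialLinearGroup (Fin 2) F) := by
        rw [h1]
        exact h16.mul_left _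
      exact Nat.dvd_of_mul_dvd_mul_left (by norm_num) h2
    have h9 : 2 ^ 3 ∣ Nat.card (ProjectiveSpecialLinearGroup (Fin 2) F) := by
      rw [show 2 ^ 3 = 8 by norm_num]; exact h8
    have : Finite (ProjectiveSpecialLinearGroup (Fin 2) F) := inferInstanceAs (Finite (_ ⧸ _))
    have h10 := (Nat.prime_two.pow_dvd_iff_le_factorization Nat.card_pos.ne').1 h9
    omega

end Cfsg.Agent.H688.HT
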