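import Cfsg.Agent.H316.HT.Defs
import Cfsg.Agent.H751.BD.Basic
import Cfsg.Agent.Characters.CCBasic
import Cfsg.Agent.S4588
import Cfsg.Agent.S4652
import Cfsg.Agent.S4825
import Cfsg.Agent.S4924

/-!
# S4933, part (O): Sylow `p`-subgroups of order `p ^ 2` in the socle, `p = 2, 3` (helper688)

`S` with `|S|_p = p ^ 2`, `|A : S|_p = p`, `P` nonabelian of order `p ^ 3`, `S P` normal in `A`: an element `x` of `P` outside `S` has
`|C(x)|_p = p ^ 2`, so `B_0(SP)` has at most `p ^ 2` characters of `p'`-degree (S4588), but at least `p * 2 p` if every character of `B_0(A)`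
nontrivial on `S` and over a `p'`-degree character has `p'`-degree (S4825).
-/

set_option autoImplicit false

namespace Cfsg.Agent.H688.HT

open Cfsg Subgroup Cfsg.Agent.H316.HT Cfsg.Agent.H672 Cfsg.Agent.H751.BD Cfsg.Agent.Characters.Core
open scoped ComplexConjugate

universe u

variable {p : ℕ} [hpf : Fact p.Prime] {M : Ideal AlgInt}

/-- the height zero characters of the principal block -/
abbrev K0 (p : ℕ) (M : Ideal AlgInt) (G : Type u) [Group G] : Type u :=
  {χ : IrrCharacter G // χ ∈ principalBlock M G ∧ ¬ p ∣ charDegree (χ : G → ℂ)}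

omit hpf in
theorem isPBlock {G : Type u} [Group G] [Finite G] (hM : IsPModular p M) : IsPBlock M (principalBlock M G) :=
  have : M.IsPrime := hM.2.1.isPrime
  Blocks.PrincipalSection.isPBlock_principalBlock

theorem isDefect {G : Type u} [Group G] [Finite G] (hM : IsPModular p M) (P : Sylow p G) :
    IsDefectGroup p M (principalBlock M G) (P : Subgroup G) := by
  have := Fintype.ofFinite G
  exact (S4652.result p M hM _).2 ⟨P, rfl⟩

theorem triv_deg {G : Type u} [Group G] : ¬ p ∣ charDegree (triv G : G → ℂ) := by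
  rw [charDegree_triv]
  exact hpf.out.one_lt.ne' ∘ Nat.dvd_one.1

/-- the number of height zero characters, `p ≤ 3`, `|P| ≥ p ^ 2` -/
theorem two_mul_le (hp3 : p ≤ 3) (hM : IsPModular p M) {G : Type u} [Group G] [Finite G]
    (h2 : 2 ≤ (Nat.card G).factorization p) : 2 * p ≤ Nat.card (K0 p M G) := by
  classical
  have hp := hpf.out
  have := Fintype.ofFinite G
  have := Fintype.ofFinite (⊥ : Subgroup G)
  obtain ⟨P⟩ : Nonempty (Sylow p G) := inferInstance
  have hPc : Nat.card (P : Subgroup G) = p ^ (Nat.card G).factorization p := P.card_eq_multiplicity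
  have hlt : p < Nat.card (P : Subgroup G) := by
    rw [hPc]
    calc p = p ^ 1 := (pow_one p).symm
      _ < p ^ (Nat.card G).factorization p := Nat.pow_lt_pow_right hp.one_lt h2
  have hPN : ¬ (P : Subgroup G) ≤ ⊥ := by
    intro h
    have h1 : (P : Subgroup G) = ⊥ := le_bot_iff.1 h
    rw [h1, Subgroup.card_bot] at hlt
    have := hp.two_le
    omega
  have key := (S4825.result p P M hM (principalBlock M G) (isPBlock hM) (isDefect hM P) ⊥ hPN (triv _)).2 hp3
  have e : {χ : IrrCharacter G // χ ∈ principalBlock M G ∧ ¬ p ∣ charDegree (χ : G → ℂ) ∧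
      classInner (fun n : (⊥ : Subgroup G) => (χ : G → ℂ) n) (triv (⊥ : Subgroup G) : (⊥ : Subgroup G) → ℂ) ≠ 0} ≃ K0 p M G := by
    refine Equiv.subtypeEquivRight fun χ => ⟨fun h => ⟨h.1, h.2.1⟩, fun h => ⟨h.1, h.2, ?_⟩⟩
    rw [classInner_def, Finset.sum_eq_single (1 : (⊥ : Subgroup G))]
    · rw [triv_apply, map_one, mul_one]
      exact mul_ne_zero (inv_ne_zero (Nat.cast_ne_zero.2 Nat.card_pos.ne')) (isIrr_apply_one_ne_zero χ.2)
    · intro b _ hb
      exact absurd (Subsingleton.elim b 1) hb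
    · intro h
      exact absurd (Finset.mem_univ _) h
  rw [Nat.card_congr e] at key
  have := finite_irr (G := G)
  have hne : Nonempty (K0 p M G) := ⟨⟨triv G, triv_mem hM, triv_deg⟩⟩
  obtain ⟨c, hc⟩ := key
  have hc0 : c ≠ 0 := by
    rintro rfl
    have : 0 < Nat.card (K0 p M G) := Nat.card_pos
    omega
  have hc1 : c ≠ 1 := by
    rintro rfl
    have h4 := (S4924.result p M hM P p (by
      rcases (by have := hp.two_le; omega : p = 2 ∨ p = 3) with h | h
      · exact Or.inl h
      · exact Or.inr h)).1 (by rw [mul_one] at hc; exact hc)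
    have h5 : Nat.card (P : Subgroup G) = p := h4
    omega
  rw [hc, mul_comm p c]
  exact Nat.mul_le_mul_right p (by omega)

section grp

variable {H : Type u} [Group H] [Finite H]

omit hpf [Finite H] in
/-- a group with a central element outside a commutative normal subgroup of prime index is commutative -/
theorem comm_of_cent (hp : p.Prime) (N : Subgroup H) [N.Normal] (hN : N.index = p) (Q : Subgroup H) {x : H} (hxN : x ∉ N)
    (hxc : ∀ q ∈ Q, q * x = x * q) (hxQ : x ∈ Q)
    (hR : ∀ a ∈ Q ⊓ N, ∀ b ∈ Q ⊓ N, a * b = b * a) : ∀ a ∈ Q, ∀ b ∈ Q, a * b = b * a := by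
  have key : ∀ q ∈ Q, ∃ (i : ℤ) (r : H), r ∈ Q ⊓ N ∧ q = x ^ i * r := by
    intro q hq
    have hc : Nat.card (H ⧸ N) = p := by rw [← Subgroup.index_eq_card, hN]
    have := Fact.mk hp
    have hx1 : (QuotientGroup.mk x : H ⧸ N) ≠ 1 := by
      intro h
      exact hxN ((QuotientGroup.eq_one_iff x).1 h)
    have hz : Subgroup.zpowers (QuotientGroup.mk x : H ⧸ N) = ⊤ := zpowers_eq_top_of_prime_card hc hx1
    have hm : (QuotientGroup.mk q : H ⧸ N) ∈ Subgroup.zpowers (QuotientGroup.mk x : H ⧸ N) := by rw [hz]; trivial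
    obtain ⟨i, hi⟩ := Subgroup.mem_zpowers_iff.1 hm
    refine ⟨i, (x ^ i)⁻¹ * q, ⟨Q.mul_mem (Q.inv_mem (Q.zpow_mem hxQ i)) hq, ?_⟩, by group⟩
    rw [← QuotientGroup.mk_zpow] at hi
    exact QuotientGroup.eq.1 hi
  have hxz : ∀ (i : ℤ) q, q ∈ Q → q * x ^ i = x ^ i * q := by
    intro i q hq
    have h1 : Commute q x := hxc q hq
    exact h1.zpow_right i
  intro a ha b hb
  obtain ⟨i, r, hr, rfl⟩ := key a ha
  obtain ⟨j, s, hs, rfl⟩ := key b hb
  have h1 := hxz j r hr.1
  have h2 := hxz i s hs.1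
  have h3 := hR r hr s hs
  calc x ^ i * r * (x ^ j * s) = x ^ i * (r * x ^ j) * s := by group
    _ = x ^ i * (x ^ j * r) * s := by rw [h1]
    _ = x ^ i * x ^ j * (r * s) := by group
    _ = x ^ j * x ^ i * (s * r) := by rw [h3, ← zpow_add, ← zpow_add, add_comm]
    _ = x ^ j * (x ^ i * s) * r := by group
    _ = x ^ j * (s * x ^ i) * r := by rw [h2]
    _ = x ^ j * s * (x ^ i * r) := by group

/-- an element with a small centraliser -/
theorem exists_small (N : Subgroup H) [N.Normal] (hN : N.index = p) (h3 : (Nat.card H).factorization p = 3)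
    (hna : ∀ P : Sylow p H, ¬ ∀ a ∈ (P : Subgroup H), ∀ b ∈ (P : Subgroup H), a * b = b * a) :
    ∃ x : H, (∃ k : ℕ, orderOf x = p ^ k) ∧ (Nat.card (Subgroup.centralizer ({x} : Set H))).factorization p ≤ 2 := by
  classical
  have hp := hpf.out
  obtain ⟨P⟩ : Nonempty (Sylow p H) := inferInstance
  have hPN : ¬ (P : Subgroup H) ≤ N := by
    intro h
    have h1 : N.index ∣ (P : Subgroup H).index := Subgroup.index_dvd_of_le h
    rw [hN] at h1
    exact P.not_dvd_index h1
  obtain ⟨x, hxP, hxN⟩ := SetLike.not_le_iff_exists.1 hPN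
  refine ⟨x, ?_, ?_⟩
  · obtain ⟨k, hk⟩ := P.isPGroup'.exists_orderOf_eq_pow ⟨x, hxP⟩ 
    refine ⟨k, ?_⟩
    rw [← hk, Subgroup.orderOf_mk]
  by_contra hcon
  push Not at hcon
  obtain ⟨Q⟩ : Nonempty (Sylow p (Subgroup.centralizer ({x} : Set H))) := inferInstance
  set Q' : Subgroup H := (Q : Subgroup _).map (Subgroup.centralizer ({x} : Set H)).subtype with hQ'
  have hQc : Nat.card Q' = p ^ (Nat.card H).factorization p := by
    have h1 : Nat.card Q' = Nat.card (Q : Subgroup (Subgroup.centralizer ({x} : Set H))) :=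
      Subgroup.card_map_of_injective (Subgroup.subtype_injective _)
    have h2 : Nat.card (Q : Subgroup (Subgroup.centralizer ({x} : Set H))) = _ := Q.card_eq_multiplicity
    rw [h1, h2]
    congr 1
    apply le_antisymm
    · exact (Nat.factorization_le_iff_dvd Nat.card_pos.ne' Nat.card_pos.ne').2 (Subgroup.card_subgroup_dvd_card _) p
    · rw [h3]; exact hcon
  let Qs : Sylow p H := Sylow.ofCard Q' hQc
  have hQs : (Qs : Subgroup H) = Q' := Sylow.coe_ofCard Q' hQc
  have hcent : ∀ q ∈ Q', q * x = x * q := by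
    rintro _ ⟨q, -, rfl⟩
    exact Subgroup.mem_centralizer_singleton_iff.1 q.2
  -- `x ∈ Q'`
  have hxQ : x ∈ Q' := by
    have hz : IsPGroup p (Subgroup.zpowers x) := by
      have h1 : Subgroup.zpowers x ≤ (P : Subgroup H) := by
        rw [Subgroup.zpowers_le]; exact hxP
      exact P.isPGroup'.to_le h1
    have hn : Subgroup.zpowers x ≤ Subgroup.normalizer ((Qs : Subgroup H) : Set H) := by
      rw [Subgroup.zpowers_le, hQs]
      apply Subgroup.centralizer_le_normalizer
      rw [Subgroup.mem_centralizer_iff]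
      intro q hq
      exact hcent q hq
    have h2 : Subgroup.zpowers x ⊓ (Qs : Subgroup H) = Subgroup.zpowers x ⊓ Subgroup.normalizer ((Qs : Subgroup H) : Set H) :=
      (IsPGroup.inf_normalizer_sylow hz Qs).symm
    have h3 : x ∈ Subgroup.zpowers x ⊓ (Qs : Subgroup H) := by
      rw [h2]
      exact ⟨Subgroup.mem_zpowers x, hn (Subgroup.mem_zpowers x)⟩
    rw [← hQs]
    exact h3.2
  apply hna Qs
  rw [hQs]
  refine comm_of_cent hp N hN Q' hxN hcent hxQ ?_
  -- `Q' ⊓ N` has order `p ^ 2`
  have hrel : N.relIndex Q' = p := by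
    have h1 : N.relIndex Q' ∣ N.index := Subgroup.relIndex_dvd_index_of_normal _ _
    rw [hN] at h1
    rcases (Nat.dvd_prime hp).1 h1 with h2 | h2
    · exact absurd (Subgroup.relIndex_eq_one.1 h2 hxQ) hxN
    · exact h2
  have hcard : Nat.card (Q' ⊓ N : Subgroup H) = p ^ 2 := by
    have h1 : Nat.card (Q' ⊓ N : Subgroup H) * N.relIndex Q' = Nat.card Q' := by
      have h2 := Subgroup.card_mul_index (N.subgroupOf Q')
      have h4 : Nat.card (N.subgroupOf Q') = Nat.card (Q' ⊓ N : Subgroup H) := by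
        rw [← Subgroup.inf_subgroupOf_left N Q']
        exact Nat.card_congr (Subgroup.subgroupOfEquivOfLe (inf_le_left : Q' ⊓ N ≤ Q')).toEquiv
      rw [← h4]
      exact h2
    rw [hrel, hQc, h3] at h1
    have h2 : Nat.card (Q' ⊓ N : Subgroup H) * p = p ^ 2 * p := by rw [h1]; ring
    exact Nat.eq_of_mul_eq_mul_right hp.pos h2
  have hcomm := IsPGroup.isMulCommutative_of_card_eq_prime_sq hcard
  intro a ha b hb
  have := hcomm.is_comm.comm (⟨a, ha⟩ : (Q' ⊓ N : Subgroup H)) ⟨b, hb⟩
  exact congrArg Subtype.val this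

end grp

section count

variable {H : Type u} [Group H] [Finite H]

/-- characters of `p'`-degree restrict irreducibly to a normal subgroup of index `p` -/
theorem restrict_eq (N : Subgroup H) [N.Normal] (hN : N.index = p) {χ : IrrCharacter H} (hχ : ¬ p ∣ charDegree (χ : H → ℂ))
    {θ : IrrCharacter N} (h : Over N.subtype (χ : H → ℂ) (θ : N → ℂ)) : (χ : H → ℂ) ∘ N.subtype = (θ : N → ℂ) := by
  obtain ⟨h1, h2⟩ := charDegree_dvd_of_over N χ.2 θ.2 h
  apply eq_of_over_of_charDegree_eq χ.2 θ.2 h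
  rw [hN] at h2
  rcases (Nat.dvd_prime hpf.out).1 h2 with h3 | h3
  · exact (Nat.eq_of_dvd_of_div_eq_one h1 h3)
  · exfalso
    apply hχ
    rw [← Nat.div_mul_cancel h1, h3]
    exact Dvd.intro _ rfl

/-- the number of height zero characters of `B_0(H)`, `|H : N| = p ≤ 3` -/
theorem mul_le (hp3 : p ≤ 3) (hM : IsPModular p M) (N : Subgroup H) [N.Normal] (hN : N.index = p)
    (h : ∀ θ : K0 p M N, ∃ χ : K0 p M H, Over N.subtype (χ.1 : H → ℂ) (θ.1 : N → ℂ)) :
    p * Nat.card (K0 p M N) ≤ Nat.card (K0 p M H) := by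
  classical
  have hp := hpf.out
  have := Fintype.ofFinite H
  have := Fintype.ofFinite N
  have hfH := finite_irr (G := H)
  have hfN := finite_irr (G := N)
  obtain ⟨P⟩ : Nonempty (Sylow p H) := inferInstance
  have hPN : ¬ (P : Subgroup H) ≤ N := by
    intro h
    have h1 : N.index ∣ (P : Subgroup H).index := Subgroup.index_dvd_of_le h
    rw [hN] at h1
    exact P.not_dvd_index h1
  let Fb : K0 p M N → Type u := fun θ => {χ : K0 p M H // Over N.subtype (χ.1 : H → ℂ) (θ.1 : N → ℂ)}
  have hFb : ∀ θ, p ≤ Nat.card (Fb θ) := by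
    intro θ
    have key := (S4825.result p P M hM (principalBlock M H) (isPBlock hM) (isDefect hM P) N hPN θ.1).2 hp3
    have e : {χ : IrrCharacter H // χ ∈ principalBlock M H ∧ ¬ p ∣ charDegree (χ : H → ℂ) ∧
        classInner (fun n : N => (χ : H → ℂ) n) (θ.1 : N → ℂ) ≠ 0} ≃ Fb θ :=
      { toFun := fun χ => ⟨⟨χ.1, χ.2.1, χ.2.2.1⟩, (over_subtype_iff N _ _).2 χ.2.2.2⟩
        invFun := fun χ => ⟨χ.1.1, χ.1.2.1, χ.1.2.2, (over_subtype_iff N _ _).1 χ.2⟩
        left_inv := fun χ => rfl
        right_inv := fun χ => rfl }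
    rw [Nat.card_congr e] at key
    obtain ⟨χ, hχ⟩ := h θ
    have hne : Nonempty (Fb θ) := ⟨⟨χ, hχ⟩⟩
    exact Nat.le_of_dvd Nat.card_pos key
  have hinj : Function.Injective (fun x : (Σ θ : K0 p M N, Fb θ) => (x.2.1 : K0 p M H)) := by
    rintro ⟨θ, χ, h1⟩ ⟨θ', χ', h2⟩ h3
    simp only at h3
    subst h3
    have e1 := restrict_eq N hN χ.2.2 h1
    have e2 := restrict_eq N hN χ.2.2 h2
    have e3 : θ = θ' := Subtype.ext (Subtype.ext (e1.symm.trans e2))
    subst e3
    rfl
  have hc : Nat.card (Σ θ : K0 p M N, Fb θ) ≤ Nat.card (K0 p M H) := Nat.card_le_card_of_injective _ hinj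
  refine le_trans ?_ hc
  have := Fintype.ofFinite (K0 p M N)
  rw [Nat.card_sigma, Nat.card_eq_fintype_card, mul_comm]
  calc Fintype.card (K0 p M N) * p = ∑ _θ : K0 p M N, p := by rw [Finset.sum_const, Finset.card_univ, smul_eq_mul]
    _ ≤ _ := Finset.sum_le_sum fun θ _ => hFb θ

end count

/-- **the square case** -/
theorem goodOn_sq (hp3 : p ≤ 3) (hM : IsPModular p M) {A : Type u} [Group A] [Finite A] (N : Subgroup A) [N.Normal]
    (P : Sylow p A) (h2 : (Nat.card N).factorization p = 2) (h1 : N.index.factorization p = 1)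
    (hH : (N ⊔ (P : Subgroup A)).Normal) (hna : ¬ ∀ a ∈ (P : Subgroup A), ∀ b ∈ (P : Subgroup A), a * b = b * a) {a : ℕ}
    (ha : 0 < a) : GoodOn p a M N := by
  classical
  have hp := hpf.out
  by_contra hcon
  set H : Subgroup A := N ⊔ (P : Subgroup A) with hHd
  have hNH : N ≤ H := le_sup_left
  have hPH : (P : Subgroup A) ≤ H := le_sup_right
  -- `P ≰ N`
  have hPN : ¬ (P : Subgroup A) ≤ N := by
    intro h
    have h3 : N.index ∣ (P : Subgroup A).index := Subgroup.index_dvd_of_le h
    apply P.not_dvd_index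
    refine dvd_trans ?_ h3
    exact (hp.dvd_iff_one_le_factorization Subgroup.index_ne_zero_of_finite).2 (by rw [h1])
  set N' : Subgroup H := N.subgroupOf H with hN'
  have hNn : N'.Normal := inferInstance
  have hidx : N'.index = p := by
    have e1 : N'.index = N.relIndex (P : Subgroup A) := by
      change N.relIndex H = _
      exact Subgroup.relIndex_sup_left _ _
    have e2 : N'.index ∣ N.index := Subgroup.relIndex_dvd_index_of_normal N H
    have e3 : ∃ k, N'.index = p ^ k := by
      have h3 : N.relIndex (P : Subgroup A) ∣ Nat.card (P : Subgroup A) := Subgroup.relIndex_dvd_card _ _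
      rw [← e1, P.card_eq_multiplicity] at h3
      obtain ⟨k, -, hk⟩ := (Nat.dvd_prime_pow hp).1 h3
      exact ⟨k, hk⟩
    obtain ⟨k, hk⟩ := e3
    have hk1 : k ≤ 1 := by
      rw [hk] at e2
      have h3 := (hp.pow_dvd_iff_le_factorization Subgroup.index_ne_zero_of_finite).1 e2
      omega
    have hk0 : k ≠ 0 := by
      rintro rfl
      apply hPN
      rw [← Subgroup.relIndex_eq_one, ← e1, hk, pow_zero]
    rw [hk, show k = 1 by omega, pow_one]
  have hcN : Nat.card N' = Nat.card N := Nat.card_congr (Subgroup.subgroupOfEquivOfLe hNH).toEquiv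
  have h3 : (Nat.card H).factorization p = 3 := by
    rw [← Subgroup.card_mul_index N', hidx, hcN, Nat.factorization_mul Nat.card_pos.ne' hp.ne_zero, Finsupp.add_apply, h2,
      hp.factorization_self]
  -- the Sylow subgroups of `H`
  have hnaH : ∀ Q : Sylow p H, ¬ ∀ a ∈ (Q : Subgroup H), ∀ b ∈ (Q : Subgroup H), a * b = b * a := by
    intro Q hQ
    apply hna
    let P' : Sylow p H := P.subtype hPH
    have e := Sylow.equiv P' Q
    intro x hx y hy
    have hx' : (⟨x, hPH hx⟩ : H) ∈ (P' : Subgroup H) := by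
      change _ ∈ (P : Subgroup A).subgroupOf H
      exact Subgroup.mem_subgroupOf.2 hx
    have hy' : (⟨y, hPH hy⟩ : H) ∈ (P' : Subgroup H) := by
      change _ ∈ (P : Subgroup A).subgroupOf H
      exact Subgroup.mem_subgroupOf.2 hy
    have h4 : (⟨⟨x, hPH hx⟩, hx'⟩ : P') * ⟨⟨y, hPH hy⟩, hy'⟩ = ⟨⟨y, hPH hy⟩, hy'⟩ * ⟨⟨x, hPH hx⟩, hx'⟩ := by
      apply e.injective
      rw [map_mul, map_mul]
      exact Subtype.ext (hQ _ (e _).2 _ (e _).2)
    have h5 := congrArg (fun z : P' => ((z : H) : A)) h4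
    exact h5
  have hup : Nat.card (K0 p M H) ≤ p ^ 2 := S4588.result p M hM (exists_small N' hidx h3 hnaH)
  have hlow : 2 * p ≤ Nat.card (K0 p M N') := two_mul_le hp3 hM (by rw [hcN, h2])
  have hmul : p * Nat.card (K0 p M N') ≤ Nat.card (K0 p M H) := by
    refine mul_le hp3 hM N' hidx ?_
    intro θ'
    by_cases hθ1 : ∀ n, (θ'.1 : N' → ℂ) n = 1
    · -- the trivial character
      refine ⟨⟨triv H, triv_mem hM, triv_deg⟩, ?_⟩
      have e1 : (θ'.1 : N' → ℂ) = (triv H : H → ℂ) ∘ N'.subtype := by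
        funext n
        rw [hθ1 n]
        rfl
      exact over_self N'.subtype θ'.1.2 e1.symm
    push Not at hθ1
    obtain ⟨n0, hn0⟩ := hθ1
    -- transport to `N`
    let e : N' ≃* N := Subgroup.subgroupOfEquivOfLe hNH
    let θ : IrrCharacter N := ⟨(θ'.1 : N' → ℂ) ∘ e.symm, isIrr_comp e.symm.toMonoidHom e.symm.surjective θ'.1.2⟩
    have hθmem : θ ∈ principalBlock M N := H684.BlockTools.infl_mem hM e.symm.toMonoidHom e.symm.surjective θ'.2.1
    have hθdeg : charDegree (θ : N → ℂ) = charDegree (θ'.1 : N' → ℂ) := by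
      apply charDegree_of_eq
      change (θ'.1 : N' → ℂ) (e.symm 1) = _
      rw [map_one, coe_charDegree θ'.1.2]
    obtain ⟨χ, hχ, hover⟩ := exists_over_mem hM N hθmem
    have hdvd := charDegree_dvd_of_over N χ.2 θ.2 hover
    -- the degree of `χ`
    have hdeg : ¬ p ∣ charDegree (χ : A → ℂ) := by
      intro hd
      apply hcon
      refine ⟨χ, hχ, ?_, ?_, ?_⟩
      · by_contra hall
        push Not at hall
        -- `N` in the kernel
        have := Fintype.ofFinite N
        have h4 := (over_subtype_iff N (χ : A → ℂ) (θ : N → ℂ)).1 hover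
        apply h4
        have h5 : (fun n : N => (χ : A → ℂ) n) = (χ : A → ℂ) 1 • (triv N : N → ℂ) := by
          funext n
          rw [Pi.smul_apply, triv_apply, smul_eq_mul, mul_one]
          exact hall n n.2
        rw [h5, classInner_smul_left, classInner_irr_ne (triv N).2 θ.2, mul_zero]
        intro h6
        apply hn0
        have h8 := congrFun h6 (e n0)
        rw [triv_apply] at h8
        change (1 : ℂ) = (θ'.1 : N' → ℂ) (e.symm (e n0)) at h8
        rw [e.symm_apply_apply] at h8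
        exact h8.symm
      · exact hp.factorization_pos_of_dvd (charDegree_pos χ.2).ne' hd
      · suffices h7 : vd p (χ : A → ℂ) ≤ 1 from h7.trans ha
        have h5 : charDegree (χ : A → ℂ) = charDegree (χ : A → ℂ) / charDegree (θ : N → ℂ) * charDegree (θ : N → ℂ) :=
          (Nat.div_mul_cancel hdvd.1).symm
        have h6 : charDegree (χ : A → ℂ) / charDegree (θ : N → ℂ) ≠ 0 := by
          intro h0
          rw [h0, zero_mul] at h5
          exact (charDegree_pos χ.2).ne' h5
        unfold vd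
        rw [h5, Nat.factorization_mul h6 (charDegree_pos θ.2).ne', Finsupp.add_apply,
          Nat.factorization_eq_zero_of_not_dvd (n := charDegree (θ : N → ℂ)) (by rw [hθdeg]; exact θ'.2.2), add_zero, ← h1]
        exact (Nat.factorization_le_iff_dvd h6 Subgroup.index_ne_zero_of_finite).2 hdvd.2 p
    -- a constituent on `H`
    have hover2 : Over (H.subtype.comp (Subgroup.inclusion hNH)) (χ : A → ℂ) (θ : N → ℂ) := hover
    obtain ⟨ξ, hξ, h5, h6⟩ := (over_comp_iff H.subtype (Subgroup.inclusion hNH) (isIrr_isCharacter χ.2) θ.2).1 hover2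
    have hHn : H.Normal := hH
    refine ⟨⟨⟨ξ, hξ⟩, mem_of_over hM H hχ h5, ?_⟩, ?_⟩
    · intro h7
      exact hdeg (dvd_trans h7 (charDegree_dvd_of_over H χ.2 hξ h5).1)
    · have h7 := (over_comp_equiv (Subgroup.inclusion hNH) e ξ (θ : N → ℂ)).2 h6
      have e1 : ((θ : N → ℂ) ∘ e) = (θ'.1 : N' → ℂ) := by
        funext n
        change (θ'.1 : N' → ℂ) (e.symm (e n)) = _
        rw [e.symm_apply_apply]
      rw [e1] at h7
      exact h7
  have h7 : p * (2 * p) ≤ p ^ 2 := (Nat.mul_le_mul_left p hlow).trans (hmul.trans hup)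
  have h8 : 0 < p ^ 2 := pow_pos hp.pos 2
  have h9 : p * (2 * p) = 2 * p ^ 2 := by ring
  omega

/-- the Sylow subgroup is not commutative -/
theorem not_comm_of_cd {P : Type u} [Group P] [Finite P] {a : ℕ} (ha : 0 < a) (h : CD p a P) : ¬ ∀ x y : P, x * y = y * x := by
  intro hc
  obtain ⟨φ, hφ⟩ := h.2
  have h1 : (φ : P → ℂ) 1 = 1 := Cfsg.Agent.Characters.CCBasic.irr_apply_one_of_comm hc φ.2
  have h2 : charDegree (φ : P → ℂ) = 1 := charDegree_of_eq (by rw [h1, Nat.cast_one])
  rw [hφ] at h2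
  have h3 := Nat.one_lt_pow ha.ne' hpf.out.one_lt
  omega

/-- **the row in the square case**: `|S|_p = p ^ 2`, and `Out S` has a normal subgroup of order `p` and of index prime to `p` -/
theorem row_sq (hp3 : p ≤ 3) {S : Type} [Group S] (h2 : (Nat.card S).factorization p = 2) {C : Type} [Group C]
    (φ : Out S →* C) (hk : Nat.card φ.ker = p) (hC : ¬ p ∣ Nat.card C) : Row p S := by
  classical
  have hp := hpf.out
  intro A _ _ N _ ⟨e⟩ hcent M hM P a ha hcd
  have hna := not_comm_of_cd ha hcd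
  have hcN : Nat.card N = Nat.card S := Nat.card_congr e.toEquiv
  have h2N : (Nat.card N).factorization p = 2 := by rw [hcN, h2]
  -- the homomorphism to `Out S`
  let ψ : A →* MulAut S := (MulAut.congr e).toMonoidHom.comp MulAut.conjNormal
  have hψ : ∀ a s, ψ a s = e (MulAut.conjNormal a (e.symm s)) := fun a s => rfl
  let g : A →* Out S := (QuotientGroup.mk' (Inn S)).comp ψ
  have hker : g.ker = N := by
    ext a
    rw [MonoidHom.mem_ker]
    have h1 : g a = 1 ↔ ψ a ∈ Inn S := QuotientGroup.eq_one_iff (ψ a)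
    rw [h1]
    constructor
    · rintro ⟨s, hs⟩
      have h2 : (e.symm s : A)⁻¹ * a ∈ Subgroup.centralizer (N : Set A) := by
        rw [Subgroup.mem_centralizer_iff]
        intro n hn
        have h3 : ψ a (e ⟨n, hn⟩) = s * e ⟨n, hn⟩ * s⁻¹ := by
          rw [← hs]
          rfl
        rw [hψ, e.symm_apply_apply] at h3
        have h4 := congrArg (fun t => ((e.symm t : N) : A)) h3
        simp only [e.symm_apply_apply, map_mul, map_inv, Subgroup.coe_mul, Subgroup.coe_inv,
          MulAut.conjNormal_apply] at h4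
        have h5 : a * n = (e.symm s : A) * n * ((e.symm s : A)⁻¹ * a) := by
          rw [← mul_assoc, ← h4]
          group
        rw [mul_assoc _ a n, h5]
        group
      rw [hcent, Subgroup.mem_bot, inv_mul_eq_one] at h2
      rw [← h2]
      exact (e.symm s).2
    · intro ha
      refine ⟨e ⟨a, ha⟩, ?_⟩
      ext s
      rw [hψ]
      have h3 : MulAut.conjNormal a (e.symm s) = (⟨a, ha⟩ : N) * e.symm s * (⟨a, ha⟩ : N)⁻¹ := by
        apply Subtype.ext
        rw [MulAut.conjNormal_apply]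
        rfl
      rw [h3, map_mul, map_mul, map_inv, e.apply_symm_apply]
      rfl
  set D : Subgroup A := (φ.comp g).ker with hD
  have hND : N ≤ D := by
    rw [← hker]
    intro x hx
    rw [MonoidHom.mem_ker] at hx ⊢
    rw [MonoidHom.comp_apply, hx, map_one]
  have hDi : ¬ p ∣ D.index := by
    intro h
    apply hC
    refine dvd_trans h ?_
    rw [Subgroup.index_ker]
    exact Subgroup.card_subgroup_dvd_card _
  have hPD : (P : Subgroup A) ≤ D := by
    have h1 : (P : Subgroup A).map (φ.comp g) = ⊥ := by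
      rw [← Subgroup.card_eq_one]
      have h3 : Nat.card ((P : Subgroup A).map (φ.comp g)) ∣ Nat.card C := Subgroup.card_subgroup_dvd_card _
      have h4 : Nat.card ((P : Subgroup A).map (φ.comp g)) ∣ Nat.card (P : Subgroup A) := Subgroup.card_map_dvd _ _
      rw [P.card_eq_multiplicity] at h4
      obtain ⟨k, -, hk⟩ := (Nat.dvd_prime_pow hp).1 h4
      rw [hk] at h3 ⊢
      rcases Nat.eq_zero_or_pos k with h0 | h0
      · rw [h0, pow_zero]
      · exact absurd (dvd_trans (dvd_pow_self p h0.ne') h3) hC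
    rw [Subgroup.map_eq_bot_iff] at h1
    exact h1
  -- `|D : N| ∣ p`
  have hrel : N.relIndex D ∣ p := by
    have h1 : N.relIndex D = Nat.card (D.map g) := by rw [← hker, Subgroup.relIndex_ker]
    rw [h1, ← hk]
    refine Subgroup.card_dvd_of_le ?_
    rintro _ ⟨d, hd, rfl⟩
    rw [MonoidHom.mem_ker]
    exact hd
  by_cases hPN : (P : Subgroup A) ≤ N
  · -- vacuous
    exfalso
    have h1 : Nat.card (P : Subgroup A) ∣ p ^ 2 := by
      have h3 : Nat.card (P : Subgroup A) ∣ Nat.card N := Subgroup.card_dvd_of_le hPN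
      rw [P.card_eq_multiplicity] at h3 ⊢
      exact pow_dvd_pow p (by
        have := (hp.pow_dvd_iff_le_factorization Nat.card_pos.ne').1 h3
        omega)
    apply hna
    obtain ⟨k, hk2, hk⟩ := (Nat.dvd_prime_pow hp).1 h1
    rcases (by omega : k = 0 ∨ k = 1 ∨ k = 2) with rfl | rfl | rfl
    · have := Nat.card_eq_one_iff_unique.1 (hk.trans (pow_zero p))
      intro x y
      exact this.1.elim _ _
    · have : IsCyclic (P : Subgroup A) := isCyclic_of_prime_card (p := p) (by rw [hk, pow_one])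
      intro x y
      exact IsCyclic.commGroup.mul_comm x y
    · have hcomm := IsPGroup.isMulCommutative_of_card_eq_prime_sq hk
      intro x y
      exact hcomm.is_comm.comm x y
  have hrel1 : N.relIndex D = p := by
    rcases (Nat.dvd_prime hp).1 hrel with h1 | h1
    · exact absurd (hPD.trans (Subgroup.relIndex_eq_one.1 h1)) hPN
    · exact h1
  have hidx : N.index = p * D.index := by rw [← hrel1, Subgroup.relIndex_mul_index hND]
  have h1 : N.index.factorization p = 1 := by
    rw [hidx, Nat.factorization_mul hp.ne_zero Subgroup.index_ne_zero_of_finite, Finsupp.add_apply, hp.factorization_self,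
      Nat.factorization_eq_zero_of_not_dvd hDi]
  have hH : N ⊔ (P : Subgroup A) = D := by
    have hle : N ⊔ (P : Subgroup A) ≤ D := sup_le hND hPD
    have h3 : N.relIndex (N ⊔ (P : Subgroup A)) * (N ⊔ (P : Subgroup A)).relIndex D = p := by
      rw [Subgroup.relIndex_mul_relIndex _ _ _ le_sup_left hle, hrel1]
    rcases (Nat.dvd_prime hp).1 (Dvd.intro _ h3) with h4 | h4
    · exfalso
      apply hPN
      exact le_sup_right.trans (Subgroup.relIndex_eq_one.1 h4)
    · rw [h4] at h3
      have h5 : (N ⊔ (P : Subgroup A)).relIndex D = 1 := Nat.eq_of_mul_eq_mul_left hp.pos (by rw [h3, mul_one])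
      exact le_antisymm hle (Subgroup.relIndex_eq_one.1 h5)
  refine goodOn_sq hp3 hM N P h2N h1 ?_ ?_ ha
  · rw [hH]
    infer_instance
  · intro h
    apply hna
    intro x y
    exact Subtype.ext (h x x.2 y y.2)

end Cfsg.Agent.H688.HT
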